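import Groth.Agent.L07.StrongGen.Functors
import Groth.Agent.L07.BvdB.FibrePush
import Groth.Agent.L07.BoxSurj.Basic
import Groth.Agent.L29.DCoh.ProjFormulaD
import Groth.Agent.L29.DCoh.TensorAssoc
import Groth.Agent.Lead.PCProjBasic

/-! Fourier-Mukai images of the diagonal and of box products. -/

set_option autoImplicit false
set_option linter.style.haveILetI false
set_option backward.defeqAttrib.useBackward true
set_option backward.isDefEq.respectTransparency false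
set_option backward.isDefEq.respectTransparency.types false

universe u

open CategoryTheory CategoryTheory.Limits CategoryTheory.Pretriangulated AlgebraicGeometry DerivedCategory
attribute [local instance] HasDerivedCategory.standard
attribute [local instance] Groth.L00.KFlat.hasLTensorCx Groth.L00.KFlat.hasLpull

noncomputable section

namespace Groth.L07.StrongGen

open Groth.L00 Groth.L29 Groth.L29.DC

variable {P : Scheme.{u}}

/-- A module as a complex in degree zero. -/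
abbrev sgl (M : P.Modules) : CochainComplex P.Modules ℤ :=
  (HomologicalComplex.single P.Modules (ComplexShape.up ℤ) 0).obj M

/-- The single complex represents the module. -/
def sglIso (M : P.Modules) : DerivedCategory.Q.obj (sgl M) ≅ DCoh.inD P M :=
  (((SingleFunctors.evaluation _ _ 0).mapIso (DerivedCategory.singleFunctorsPostcompQIso P.Modules)).app M).symm

theorem isStrictlyPerfect_sgl {M : P.Modules} (hM : FlatMod.IsFinLocFree M) : DCoh.IsStrictlyPerfect (sgl M) :=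
  ⟨⟨0, 0, fun i hi => HomologicalComplex.isZero_single_obj_X _ _ _ _ (by omega)⟩, fun i => by
    by_cases h : i = 0
    · subst h
      exact Groth.L29.LocFree.of_iso (HomologicalComplex.singleObjXSelf _ _ _).symm hM
    · exact Groth.L29.LocFree.of_isZero (HomologicalComplex.isZero_single_obj_X _ _ _ _ h)⟩

/-- Swapping the factors of a derived tensor product of K-flat complexes. -/
theorem nonempty_swap (A B : CochainComplex P.Modules ℤ) (hA : DCoh.IsKFlat A) (hB : DCoh.IsKFlat B) :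
    Nonempty ((DCoh.LTensorCx A).obj (DerivedCategory.Q.obj B) ≅
      (DCoh.LTensorCx B).obj (DerivedCategory.Q.obj A)) := by
  exact ⟨(Assoc.allIso A hA).app B ≪≫ DerivedCategory.Q.mapIso
    ((KFlat.commIso B A).symm ≪≫ Iso.refl _) ≪≫ ((Assoc.allIso B hB).app A).symm⟩

/-- Tensoring with a module and with the complex it defines. -/
theorem nonempty_ltMod (G : P.Modules) (hG : DCoh.IsKFlat (sgl G)) [DCoh.HasLTensorMod G]
    (Q : CochainComplex P.Modules ℤ) (hQ : DCoh.IsKFlat Q) :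
    Nonempty ((DCoh.LTensorMod G).obj (DCoh.toD P Q) ≅ (DCoh.LTensorCx (sgl G)).obj (DCoh.toD P Q)) :=
  ⟨DerivedApi.objIso (DerivedApi.acyclicKFlat_tensorMod G) Q hQ ≪≫
    DerivedCategory.Q.mapIso (DerivedApi.tensorModCxIso G Q) ≪≫
    ((Assoc.allIso Q hQ).app (sgl G)).symm ≪≫ (nonempty_swap Q (sgl G) hQ hG).some⟩

variable {X Y : Scheme.{u}}

/-- The image of a structure sheaf of a graph-like closed subscheme. -/
theorem nonempty_closed {Z : Scheme.{u}} (ι : Z ⟶ P) [IsClosedImmersion ι] (p1 : P ⟶ X) (p2 : P ⟶ Y)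
    (g : Z ⟶ X) (hg : ι ≫ p1 = g) (g' : Z ⟶ Y) (hg' : ι ≫ p2 = g')
    [DCoh.HasRpush p2] [DCoh.HasLpull p1] [DCoh.HasLpull g] [DCoh.HasRpush g']
    (K : DCoh.D X) (Q : CochainComplex P.Modules ℤ) (hQ : DCoh.IsKFlat Q)
    (eQ : DCoh.toD P Q ≅ (DCoh.Lpull p1).obj K) :
    Nonempty ((DCoh.Rpush p2).obj ((DCoh.LTensorCx Q).obj (DCoh.inD P ((Coh.push ι).obj (Coh.structureModule Z)))) ≅
      (DCoh.Rpush g').obj ((DCoh.Lpull g).obj K)) := by
  subst hg hg'
  haveI := RpushQC.hasRpush ι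
  haveI := ClosedPC.additive ι
  haveI := ClosedPC.exactLeft ι
  haveI := ClosedPC.exactRight ι
  let OZ : DCoh.D Z := DCoh.inD Z (Coh.structureModule Z)
  obtain ⟨e₀⟩ := Groth.Lead.ClosedRpush.nonempty_Rpush_iso_pD ι OZ
  let e₁ : DCoh.inD P ((Coh.push ι).obj (Coh.structureModule Z)) ≅ (DCoh.Rpush ι).obj OZ :=
    (e₀ ≪≫ ((Scheme.Modules.pushforward ι).mapDerivedCategorySingleFunctor 0).app (Coh.structureModule _)).symm
  obtain ⟨e₂⟩ := ClosedProj.nonempty_projection ι Q hQ OZ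
  let Pf := ((Scheme.Modules.pullback ι).mapHomologicalComplex (ComplexShape.up ℤ)).obj Q
  haveI := BC.LTExact.isIso_cnt Pf (isKFlat_of_isStrictlyPerfect (RHom.isStrictlyPerfect_O0 (X := Z)))
  let eL : (DCoh.LTensorCx Pf).obj OZ ≅ (DCoh.Lpull ι).obj (DCoh.toD P Q) :=
    ((DCoh.LTensorCx Pf).mapIso (sglIso (Coh.structureModule Z)).symm ≪≫ asIso (BC.LTExact.cnt Pf _) ≪≫
      DerivedCategory.Q.mapIso (KFlat.commIso (RHom.O0 Z) Pf ≪≫ BC.PFNat.unitL Pf)) ≪≫
    (DerivedApi.objIso (DerivedApi.acyclicKFlat_pullback ι) Q hQ).symm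
  obtain ⟨c⟩ := RpushComp.rpush_comp ι p2
  obtain ⟨c'⟩ := DerivedApi.lpull_comp ι p1
  exact ⟨(DCoh.Rpush p2).mapIso ((DCoh.LTensorCx Q).mapIso e₁ ≪≫ e₂ ≪≫
      (DCoh.Rpush ι).mapIso (eL ≪≫ (DCoh.Lpull ι).mapIso eQ ≪≫ c'.app K)) ≪≫ c.app _⟩

open Groth.L07.BoxSurj

/-- The image of a box product. -/
theorem nonempty_box (p1 : P ⟶ X) (p2 : P ⟶ Y) [DCoh.HasRpush p2]
    [∀ M : P.Modules, DCoh.HasLTensorMod M]
    (E : X.Modules) (G : Y.Modules) (hE : FlatMod.IsFinLocFree E) (hG : FlatMod.IsFinLocFree G)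
    (Q : CochainComplex P.Modules ℤ) (hQ : DCoh.IsKFlat Q) :
    Nonempty ((DCoh.Rpush p2).obj ((DCoh.LTensorCx Q).obj (DCoh.inD P (box p1 p2 E G))) ≅
      (DCoh.LTensorCx (sgl G)).obj ((DCoh.Rpush p2).obj
        ((DCoh.LTensorMod ((Scheme.Modules.pullback p1).obj E)).obj (DCoh.toD P Q)))) := by
  let A := (Scheme.Modules.pullback p1).obj E
  let B := (Scheme.Modules.pullback p2).obj G
  have hA : FlatMod.IsFinLocFree A := Groth.L29.LocFree.pullback p1 hE
  have hB : FlatMod.IsFinLocFree B := Groth.L29.LocFree.pullback p2 hG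
  have kA := isKFlat_of_isStrictlyPerfect (isStrictlyPerfect_sgl hA)
  have kB := isKFlat_of_isStrictlyPerfect (isStrictlyPerfect_sgl hB)
  have kG := isKFlat_of_isStrictlyPerfect (isStrictlyPerfect_sgl hG)
  have kAB := isKFlat_of_isStrictlyPerfect (isStrictlyPerfect_sgl (isFinLocFree_tensor hA hB))
  let eAB : DCoh.toD P (sgl (CohB1.tensorMod A B)) ≅ DCoh.toD P ((DCoh.tensorCx.obj (sgl A)).obj (sgl B)) :=
    DerivedCategory.Q.mapIso (((HomologicalComplex.singleMapHomologicalComplex (DCoh.tensorRightMod B)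
      (ComplexShape.up ℤ) 0).app A).symm ≪≫ DerivedApi.tensorModCxIso B (sgl A) ≪≫
      (KFlat.commIso (sgl A) (sgl B) ≪≫ Iso.refl _))
  obtain ⟨n₁⟩ := RHom.nonempty_lt_iso eAB
  obtain ⟨n₂⟩ := Assoc.nonempty_LTensor_comp (sgl A) (sgl B) kB
  obtain ⟨m⟩ := nonempty_ltMod A kA Q hQ
  obtain ⟨s⟩ := nonempty_swap Q (sgl (CohB1.tensorMod A B)) hQ kAB
  let W := (DCoh.LTensorMod A).obj (DCoh.toD P Q)
  let e : (DCoh.LTensorCx Q).obj (DCoh.inD P (CohB1.tensorMod A B)) ≅ (DCoh.LTensorCx (sgl B)).obj W :=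
    (DCoh.LTensorCx Q).mapIso (sglIso _).symm ≪≫ s ≪≫ n₁.app _ ≪≫ (n₂.app _).symm ≪≫
      (DCoh.LTensorCx (sgl B)).mapIso m.symm
  have hperf : DCoh.IsPerfect (DerivedCategory.Q.obj (sgl G)) :=
    Groth.L29.DC.isPerfect_of_iso (sglIso G).symm (Groth.Lead.PCProj.isPerfect_inD hG)
  obtain ⟨pf⟩ := ProjFormulaD.nonempty_projection p2 (sgl G) kG hperf W
  let eG : DCoh.toD P ((Proj.pullCx p2).obj (sgl G)) ≅ DCoh.toD P (sgl B) :=
    DerivedCategory.Q.mapIso ((HomologicalComplex.singleMapHomologicalComplex (Scheme.Modules.pullback p2)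
      (ComplexShape.up ℤ) 0).app G)
  obtain ⟨n₃⟩ := RHom.nonempty_lt_iso eG
  exact ⟨(DCoh.Rpush p2).mapIso (e ≪≫ (n₃.app W).symm) ≪≫ pf.symm⟩

end Groth.L07.StrongGen
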