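import Groth.Agent.L07.StrongGen.Uniform
import Groth.Agent.L07.StrongGen.Kernel
import Groth.Agent.L18.TildeFunctor
import Groth.Agent.L10.DTen.DbAut.Split
import Groth.Agent.L29.Dual.TorInj
import Groth.Agent.S0997
import Groth.Agent.S1105
import Mathlib.Algebra.Category.ModuleCat.Biproducts
import Mathlib.LinearAlgebra.FiniteDimensional.Defs

/-! Images of perfect objects over a field lie in level zero of the image of the field. -/

set_option autoImplicit false
set_option linter.style.haveILetI false
set_option backward.defeqAttrib.useBackward true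
set_option backward.isDefEq.respectTransparency false
set_option backward.isDefEq.respectTransparency.types false

universe u

open CategoryTheory CategoryTheory.Limits CategoryTheory.Pretriangulated AlgebraicGeometry
attribute [local instance] HasDerivedCategory.standard
attribute [local instance] Groth.L00.KFlat.hasLTensorCx

noncomputable section

namespace Groth.L07.StrongGen

instance tildeLimits (R : Type u) [CommRing R] : PreservesFiniteLimits (tilde.functor (CommRingCat.of R)) :=
  Groth.L18.TildeF.tilde_preservesFiniteLimits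

variable {k : Type u} [Field k] {X : Scheme.{u}} (s : X ⟶ Spec (CommRingCat.of k)) [DCoh.HasLpull s]
  (L : CochainComplex X.Modules ℤ)

/-- From modules over the field to the scheme. -/
def psi : Dual.D k ⥤ DCoh.D X :=
  DCoh.tildeD (CommRingCat.of k) ⋙ DCoh.Lpull s ⋙ DCoh.LTensorCx L

/-- The image of the field. -/
def gen : DCoh.D X := (psi s L).obj ((DerivedCategory.singleFunctor (ModuleCat.{u} k) 0).obj (ModuleCat.of k k))

theorem ex_psi : Ex (psi s L) :=
  (Ex.of_triangulated _).comp ((ex_Lpull s).comp (ex_LTensorCx L))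

open Groth.L10.DR in
theorem iter_single (i : ℤ) (M : ModuleCat.{u} k) [Module.Finite k M] :
    ObjectProperty.triangEnvelopeIter (ObjectProperty.ofObj (fun _ : PUnit.{u + 1} => gen s L)) 0
      ((psi s L).obj (single i M)) := by
  let Q := ObjectProperty.ofObj (fun _ : PUnit.{u + 1} => gen s L)
  have hG : Q (gen s L) := ObjectProperty.ofObj.mk PUnit.unit
  let b := Module.finBasis k M
  let eM : M ≅ ⨁ (fun _ : Fin (Module.finrank k M) => ModuleCat.of k k) :=
    (b.equivFun.toModuleIso :
      M ≅ ModuleCat.of k (∀ _ : Fin (Module.finrank k M), (ModuleCat.of k k : ModuleCat.{u} k))) ≪≫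
      (ModuleCat.biproductIsoPi fun _ : Fin (Module.finrank k M) => ModuleCat.of k k).symm
  let F := DerivedCategory.singleFunctor (ModuleCat.{u} k) i
  let e : single i M ≅ ⨁ (fun _ : Fin (Module.finrank k M) => F.obj (ModuleCat.of k k)) :=
    F.mapIso eM ≪≫ F.mapBiproduct _
  have h0 : Q.triangEnvelopeIter 0 ((psi s L).obj (F.obj (ModuleCat.of k k))) := by
    let e' : F.obj (ModuleCat.of k k) ≅
        ((DerivedCategory.singleFunctor (ModuleCat.{u} k) 0).obj (ModuleCat.of k k))⟦-i⟧ :=
      (((DerivedCategory.singleFunctors (ModuleCat.{u} k)).shiftIso (-i) i 0 (by omega)).app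
        (ModuleCat.of k k)).symm
    exact (Q.triangEnvelopeIter 0).prop_of_iso
      ((psi s L).mapIso e' ≪≫ ((ex_psi s L).nonempty_shift _ (-i)).some).symm
      ((Q.triangEnvelopeIter 0).le_shift (-i) _ (Q.le_triangEnvelopeIter 0 _ hG))
  exact (Q.triangEnvelopeIter 0).prop_of_iso ((psi s L).mapIso e).symm
    (iter_biproduct (ex_psi s L) Q (gen s L) hG 0 _ _ fun _ => h0)

open Groth.L10.DR Groth.L02.PC in
theorem iter_of_perfect (V : DCoh.D (Spec (CommRingCat.of k))) (hV : DCoh.IsPerfect V) :
    ObjectProperty.triangEnvelopeIter (ObjectProperty.ofObj (fun _ : PUnit.{u + 1} => gen s L)) 0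
      ((DCoh.LTensorCx L).obj ((DCoh.Lpull s).obj V)) := by
  classical
  let Q := ObjectProperty.ofObj (fun _ : PUnit.{u + 1} => gen s L)
  have hG : Q (gen s L) := ObjectProperty.ofObj.mk PUnit.unit
  obtain ⟨W, ⟨eW⟩⟩ := ((Groth.Agent.S0997.result (CommRingCat.of k)).2.2 V).1
    (Groth.L29.DC.PCQCoh.isQCohD_of_perfect hV)
  obtain ⟨E, a, b, hv, hfp, ⟨eE⟩⟩ := (Groth.Agent.S1105.result k W).1 (Groth.L29.DC.isPerfect_of_iso eW.symm hV)
  have hfin : ∀ i, Module.Finite k ((HH i).obj W) := fun i => by
    haveI := Groth.L29.TorInj.finite_HD E (fun j => (hfp j).1) i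
    exact Module.Finite.equiv ((DerivedCategory.homologyFunctor (ModuleCat.{u} k) i).mapIso eE).toLinearEquiv
  have hzero : ∀ i, i ∉ Finset.Icc a b → IsZero ((HH i).obj W) := fun i hi => by
    refine IsZero.of_iso ?_ (((DerivedCategory.homologyFunctor (ModuleCat.{u} k) i).mapIso eE).symm ≪≫
      (DerivedCategory.homologyFunctorFactors (ModuleCat.{u} k) i).app E)
    exact (HomologicalComplex.exactAt_iff_isZero_homology E i).1
      (ShortComplex.exact_of_isZero_X₂ _ (hv i (by simp only [Finset.mem_Icc] at hi; omega)))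
  obtain ⟨e⟩ := Groth.L10.DTen.DbAut.exists_split_iso W (Finset.Icc a b) hzero (fun i => inferInstance)
  let f := fun i : (Finset.Icc a b : Finset ℤ) => single (i : ℤ) ((HH (i : ℤ)).obj W)
  let σ := (Fintype.equivFin (Finset.Icc a b : Finset ℤ)).symm
  let e' : ⨁ (fun m => f (σ m)) ≅ ⨁ f := biproduct.reindex σ f
  refine (Q.triangEnvelopeIter 0).prop_of_iso
    ((psi s L).mapIso (e' ≪≫ e) ≪≫ (DCoh.LTensorCx L).mapIso ((DCoh.Lpull s).mapIso eW)) ?_
  exact iter_biproduct (ex_psi s L) Q (gen s L) hG 0 _ _ fun m =>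
    haveI := hfin (σ m : ℤ); iter_single s L _ _

end Groth.L07.StrongGen
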