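import Groth.Agent.L07.StrongGen.Range
import Groth.Agent.L07.StrongGen.Field
import Groth.Agent.L10.RelPC.TensorPullMax

/-! Ranges on images of perfect objects over a field. -/

set_option autoImplicit false
set_option linter.style.haveILetI false
set_option backward.defeqAttrib.useBackward true
set_option backward.isDefEq.respectTransparency false
set_option backward.isDefEq.respectTransparency.types false

universe u v' u'

open CategoryTheory CategoryTheory.Limits CategoryTheory.Pretriangulated AlgebraicGeometry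
attribute [local instance] HasDerivedCategory.standard
attribute [local instance] Groth.L00.KFlat.hasLTensorCx

noncomputable section

namespace Groth.L07.StrongGen

open Groth.L10.DR Groth.L02.PC

variable {k : Type u} [Field k] {X : Scheme.{u}} (s : X ⟶ Spec (CommRingCat.of k)) [DCoh.HasLpull s]
  (L : CochainComplex X.Modules ℤ) (P : ObjectProperty (DCoh.D X)) [P.IsTriangulated]
  [P.IsClosedUnderIsomorphisms] {A : Type u'} [Category.{v'} A] [Abelian A]
  (H : P.FullSubcategory ⥤ A) [H.IsHomological]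

theorem bdd_single {m : ℕ} (h : Bdd P H m (gen s L)) (i : ℤ) (M : ModuleCat.{u} k) [Module.Finite k M] :
    Bdd P H (m + i.natAbs) ((psi s L).obj (single i M)) := by
  let b := Module.finBasis k M
  let eM : M ≅ ⨁ (fun _ : Fin (Module.finrank k M) => ModuleCat.of k k) :=
    (b.equivFun.toModuleIso :
      M ≅ ModuleCat.of k (∀ _ : Fin (Module.finrank k M), (ModuleCat.of k k : ModuleCat.{u} k))) ≪≫
      (ModuleCat.biproductIsoPi fun _ : Fin (Module.finrank k M) => ModuleCat.of k k).symm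
  let F := DerivedCategory.singleFunctor (ModuleCat.{u} k) i
  let e : single i M ≅ ⨁ (fun _ : Fin (Module.finrank k M) => F.obj (ModuleCat.of k k)) :=
    F.mapIso eM ≪≫ F.mapBiproduct _
  have h0 : Bdd P H (m + i.natAbs) ((psi s L).obj (F.obj (ModuleCat.of k k))) := by
    let e' : F.obj (ModuleCat.of k k) ≅
        ((DerivedCategory.singleFunctor (ModuleCat.{u} k) 0).obj (ModuleCat.of k k))⟦-i⟧ :=
      (((DerivedCategory.singleFunctors (ModuleCat.{u} k)).shiftIso (-i) i 0 (by omega)).app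
        (ModuleCat.of k k)).symm
    have h1 := h.shift (-i)
    rw [Int.natAbs_neg] at h1
    exact h1.of_iso ((psi s L).mapIso e' ≪≫ ((ex_psi s L).nonempty_shift _ (-i)).some).symm
  exact (bdd_biproduct P H (psi s L) (ex_psi s L) _ _ _ fun _ => h0).of_iso ((psi s L).mapIso e).symm

theorem bdd_of_perfect {m : ℕ} (h : Bdd P H m (gen s L)) (N : ℕ)
    (V : DCoh.D (Spec (CommRingCat.of k))) (hV : DCoh.IsPerfect V)
    (hN : ∀ i : ℤ, (i < 0 ∨ (N : ℤ) < i) → IsZero (DCoh.HD V i)) :
    Bdd P H (m + N) ((DCoh.LTensorCx L).obj ((DCoh.Lpull s).obj V)) := by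
  classical
  obtain ⟨W, ⟨eW⟩⟩ := ((Groth.Agent.S0997.result (CommRingCat.of k)).2.2 V).1
    (Groth.L29.DC.PCQCoh.isQCohD_of_perfect hV)
  obtain ⟨E, a, b, -, hfp, ⟨eE⟩⟩ := (Groth.Agent.S1105.result k W).1 (Groth.L29.DC.isPerfect_of_iso eW.symm hV)
  have hfin : ∀ i, Module.Finite k ((HH i).obj W) := fun i => by
    haveI := Groth.L29.TorInj.finite_HD E (fun j => (hfp j).1) i
    exact Module.Finite.equiv ((DerivedCategory.homologyFunctor (ModuleCat.{u} k) i).mapIso eE).toLinearEquiv
  have hzero : ∀ i, i ∉ Finset.Icc (0 : ℤ) N → IsZero ((HH i).obj W) := fun i hi => by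
    haveI : PreservesFiniteColimits (tilde.functor (CommRingCat.of k)) :=
      haveI := (tilde.adjunction (R := CommRingCat.of k)).leftAdjoint_preservesColimits
      PreservesColimits.preservesFiniteColimits _
    obtain ⟨e⟩ := Groth.L10.RelPC.TensorPullMax.isLE_map (tilde.functor (CommRingCat.of k)) W i
    have hz : IsZero ((tilde.functor (CommRingCat.of k)).obj ((HH i).obj W)) :=
      (hN i (by simp only [Finset.mem_Icc] at hi; omega)).of_iso
        (e.symm ≪≫ (DerivedCategory.homologyFunctor _ i).mapIso eW)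
    rw [IsZero.iff_id_eq_zero]
    exact (tilde.fullyFaithfulFunctor (R := CommRingCat.of k)).map_injective (hz.eq_of_src _ _)
  obtain ⟨e⟩ := Groth.L10.DTen.DbAut.exists_split_iso W (Finset.Icc (0 : ℤ) N) hzero (fun i => inferInstance)
  let f := fun i : (Finset.Icc (0 : ℤ) N : Finset ℤ) => single (i : ℤ) ((HH (i : ℤ)).obj W)
  let σ := (Fintype.equivFin (Finset.Icc (0 : ℤ) N : Finset ℤ)).symm
  let e' : ⨁ (fun n => f (σ n)) ≅ ⨁ f := biproduct.reindex σ f
  refine Bdd.of_iso ((psi s L).mapIso (e' ≪≫ e) ≪≫ (DCoh.LTensorCx L).mapIso ((DCoh.Lpull s).mapIso eW)) ?_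
  exact bdd_biproduct P H (psi s L) (ex_psi s L) _ _ _ fun n => by
    haveI := hfin (σ n : ℤ)
    have h2 := Finset.mem_Icc.1 (σ n).2
    exact (bdd_single s L P H h (σ n : ℤ) _).mono (by omega)

/-- A tensor product of modules in degree zero. -/
theorem nonempty_lt_sgl {Z : Scheme.{u}} (M B : Z.Modules) (hB : DCoh.IsKFlat (sgl B)) [DCoh.HasLTensorMod B] :
    Nonempty ((DCoh.LTensorMod B).obj (DCoh.inD Z M) ≅ DCoh.inD Z (CohB1.tensorMod M B)) := by
  obtain ⟨Q, q, hQ, -, hq, -⟩ := Groth.L00.KFlat.exists_resolution (sgl M)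
  haveI := (DerivedCategory.isIso_Q_map_iff_quasiIso _ q).2 hq
  let eQ : DCoh.toD Z Q ≅ DCoh.inD Z M := asIso (DerivedCategory.Q.map q) ≪≫ sglIso M
  obtain ⟨m⟩ := nonempty_ltMod B hB Q hQ
  exact ⟨(DCoh.LTensorMod B).mapIso eQ.symm ≪≫ m ≪≫
    (DCoh.LTensorCx (sgl B)).mapIso (asIso (DerivedCategory.Q.map q)) ≪≫
    (Groth.L29.DC.Assoc.allIso (sgl B) hB).app (sgl M) ≪≫
    DerivedCategory.Q.mapIso (((HomologicalComplex.singleMapHomologicalComplex (DCoh.tensorRightMod B)
      (ComplexShape.up ℤ) 0).app M).symm ≪≫ Groth.L00.DerivedApi.tensorModCxIso B (sgl M) ≪≫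
      (Groth.L00.KFlat.commIso (sgl M) (sgl B) ≪≫ Iso.refl _)).symm ≪≫ sglIso _⟩

end Groth.L07.StrongGen
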