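import Groth.Agent.L10.Triang4
import Mathlib.CategoryTheory.Triangulated.Generators

/-! Functors sending some cone triangle of each morphism to a triangle. -/

set_option autoImplicit false
set_option backward.defeqAttrib.useBackward true
set_option backward.isDefEq.respectTransparency false
set_option backward.isDefEq.respectTransparency.types false

universe v u v' u' v'' u''

open CategoryTheory CategoryTheory.Limits CategoryTheory.Pretriangulated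
open scoped ZeroObject

namespace Groth.L07.StrongGen

variable {C : Type u} [Category.{v} C] [Preadditive C] [HasZeroObject C] [HasShift C ℤ]
  [∀ n : ℤ, (shiftFunctor C n).Additive] [Pretriangulated C]
  {D : Type u'} [Category.{v'} D] [Preadditive D] [HasZeroObject D] [HasShift D ℤ]
  [∀ n : ℤ, (shiftFunctor D n).Additive] [Pretriangulated D]
  {E : Type u''} [Category.{v''} E] [Preadditive E] [HasZeroObject E] [HasShift E ℤ]
  [∀ n : ℤ, (shiftFunctor E n).Additive] [Pretriangulated E]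

/-- Some cone of each morphism is sent to a cone of its image. -/
def Ex (F : C ⥤ D) : Prop :=
  ∀ ⦃A B : C⦄ (f : A ⟶ B), ∃ (Z : C) (g : B ⟶ Z) (h : Z ⟶ A⟦(1 : ℤ)⟧),
    Triangle.mk f g h ∈ distTriang C ∧ ∃ (a : F.obj B ⟶ F.obj Z) (b : F.obj Z ⟶ (F.obj A)⟦(1 : ℤ)⟧),
      Triangle.mk (F.map f) a b ∈ distTriang D

namespace Ex

theorem of_triangulated (F : C ⥤ D) [F.CommShift ℤ] [F.IsTriangulated] : Ex F := fun A B f => by
  obtain ⟨Z, g, h, hT⟩ := distinguished_cocone_triangle f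
  exact ⟨Z, g, h, hT, _, _, F.map_distinguished _ hT⟩

theorem of_iso {F G : C ⥤ D} (e : F ≅ G) (hF : Ex F) : Ex G := fun A B f => by
  obtain ⟨Z, g, h, hT, a, b, hT'⟩ := hF f
  refine ⟨Z, g, h, hT, e.inv.app B ≫ a ≫ e.hom.app Z, e.inv.app Z ≫ b ≫ (e.hom.app A)⟦(1 : ℤ)⟧',
    isomorphic_distinguished _ hT' _ (Triangle.isoMk _ _ (e.app A).symm (e.app B).symm (e.app Z).symm ?_ ?_ ?_)⟩
  · simp
  · simp
  · simp [← Functor.map_comp]

/-- Any triangle gives a triangle on the images of its vertices. -/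
theorem triangle {F : C ⥤ D} (hF : Ex F) (T : Triangle C) (hT : T ∈ distTriang C) :
    ∃ (a : F.obj T.obj₂ ⟶ F.obj T.obj₃) (b : F.obj T.obj₃ ⟶ (F.obj T.obj₁)⟦(1 : ℤ)⟧),
      Triangle.mk (F.map T.mor₁) a b ∈ distTriang D := by
  obtain ⟨Z, g, h, hT', a, b, hd⟩ := hF T.mor₁
  let e : T.obj₃ ≅ Z := Triangle.π₃.mapIso (isoTriangleOfIso₁₂ _ _ hT hT' (Iso.refl _) (Iso.refl _)
    ((Category.comp_id _).trans (Category.id_comp _).symm))
  refine ⟨a ≫ F.map e.inv, F.map e.hom ≫ b, isomorphic_distinguished _ hd _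
    (Triangle.isoMk _ _ (Iso.refl _) (Iso.refl _) (F.mapIso e) ?_ ?_ ?_)⟩
  · simp
  · simp [← Functor.map_comp]
  · simp

theorem comp {F : C ⥤ D} {G : D ⥤ E} (hF : Ex F) (hG : Ex G) : Ex (F ⋙ G) := fun A B f => by
  obtain ⟨Z, g, h, hT, a, b, hd⟩ := hF f
  obtain ⟨a', b', hd'⟩ := hG.triangle _ hd
  exact ⟨Z, g, h, hT, a', b', hd'⟩

theorem map_isZero {F : C ⥤ D} (hF : Ex F) {A : C} (hA : IsZero A) : IsZero (F.obj A) := by
  have h0 : (contractibleTriangle A) ∈ distTriang C := contractible_distinguished A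
  obtain ⟨a, b, hd⟩ := hF.triangle _ h0
  have h1 : IsZero (F.obj (contractibleTriangle A).obj₃) := by
    refine (Triangle.isZero₃_iff_isIso₁ _ hd).2 ?_
    change IsIso (F.map (𝟙 A))
    infer_instance
  exact h1.of_iso (F.mapIso ((isZero_zero C).iso hA).symm)

theorem nonempty_shift_one {F : C ⥤ D} (hF : Ex F) (A : C) :
    Nonempty (F.obj (A⟦(1 : ℤ)⟧) ≅ (F.obj A)⟦(1 : ℤ)⟧) := by
  obtain ⟨Z, g, h, hT, a', b', hd'⟩ := hF (0 : A ⟶ (0 : C))
  have hz : IsZero (F.obj (0 : C)) := hF.map_isZero (isZero_zero C)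
  haveI : IsIso h := (Triangle.isZero₂_iff_isIso₃ _ hT).1 (isZero_zero C)
  haveI : IsIso b' := (Triangle.isZero₂_iff_isIso₃ _ hd').1 hz
  exact ⟨(F.mapIso (asIso h)).symm ≪≫ asIso b'⟩

theorem nonempty_shift {F : C ⥤ D} (hF : Ex F) (A : C) (n : ℤ) :
    Nonempty (F.obj (A⟦n⟧) ≅ (F.obj A)⟦n⟧) := by
  induction n using Int.induction_on with
  | zero => exact ⟨F.mapIso ((shiftFunctorZero C ℤ).app A) ≪≫ ((shiftFunctorZero D ℤ).app _).symm⟩
  | succ k ih =>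
    obtain ⟨e⟩ := ih
    obtain ⟨e'⟩ := hF.nonempty_shift_one (A⟦(k : ℤ)⟧)
    exact ⟨F.mapIso ((shiftFunctorAdd' C (k : ℤ) 1 _ rfl).app A) ≪≫ e' ≪≫ (shiftFunctor D 1).mapIso e ≪≫
      ((shiftFunctorAdd' D (k : ℤ) 1 _ rfl).app _).symm⟩
  | pred k ih =>
    obtain ⟨e⟩ := ih
    obtain ⟨e'⟩ := hF.nonempty_shift_one (A⟦(-(k : ℤ) - 1)⟧)
    let e'' : (F.obj (A⟦(-(k : ℤ) - 1)⟧))⟦(1 : ℤ)⟧ ≅ ((F.obj A)⟦(-(k : ℤ) - 1)⟧)⟦(1 : ℤ)⟧ :=
      e'.symm ≪≫ F.mapIso ((shiftFunctorAdd' C (-(k : ℤ) - 1) 1 (-(k : ℤ)) (by omega)).app A).symm ≪≫ e ≪≫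
        (shiftFunctorAdd' D (-(k : ℤ) - 1) 1 (-(k : ℤ)) (by omega)).app _
    exact ⟨(shiftFunctor D (1 : ℤ)).preimageIso e''⟩

theorem nonempty_biprod {F : C ⥤ D} (hF : Ex F) (A B : C) :
    Nonempty (F.obj (A ⊞ B) ≅ F.obj A ⊞ F.obj B) := by
  obtain ⟨a, b, hd⟩ := hF.triangle _ (binaryBiproductTriangle_distinguished A B)
  have hm : Mono (F.map (biprod.inl : A ⟶ A ⊞ B)) :=
    (SplitMono.mk (F.map biprod.fst) (by
      rw [← Functor.map_comp, biprod.inl_fst, CategoryTheory.Functor.map_id]) :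
      SplitMono (F.map (biprod.inl : A ⟶ A ⊞ B))).mono
  obtain ⟨e, -⟩ := exists_iso_binaryBiproduct_of_distTriang _ hd (Triangle.mor₃_eq_zero_of_mono₁ _ hd hm)
  exact ⟨e⟩

end Ex

end Groth.L07.StrongGen
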