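import Groth.Agent.L07.StrongGen.Ex
import Groth.Agent.L07.BvdB.KernelSystem
import Groth.Agent.L29.BC.LTExact
import Groth.Agent.L00.LComp
import Groth.Agent.L00.RpushComp
import Groth.Agent.L29.DCoh.RHomBound

/-! Exactness of the derived functors of Fourier-Mukai type; identities. -/

set_option autoImplicit false
set_option linter.style.haveILetI false
set_option backward.defeqAttrib.useBackward true
set_option backward.isDefEq.respectTransparency false
set_option backward.isDefEq.respectTransparency.types false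

universe u

open CategoryTheory CategoryTheory.Limits CategoryTheory.Pretriangulated AlgebraicGeometry DerivedCategory
attribute [local instance] HasDerivedCategory.standard
attribute [local instance] Groth.L00.KFlat.hasLTensorCx

noncomputable section

namespace Groth.L07.StrongGen

open Groth.L00 Groth.L10 Groth.L29

variable {X Y : Scheme.{u}}

theorem ex_LTensorCx (K : CochainComplex X.Modules ℤ) [DCoh.HasLTensorCx K] : Ex (DCoh.LTensorCx K) := by
  intro A B f
  obtain ⟨Z, g, h, hT⟩ := Pretriangulated.distinguished_cocone_triangle f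
  obtain ⟨b, hd⟩ := Groth.L29.BC.LTExact.exists_distinguished K _ (inv_rot_of_distTriang _ hT)
  let ε := (shiftEquiv (DCoh.D X) (1 : ℤ)).counitIso.app Z
  refine ⟨Z, g, h, hT, (DCoh.LTensorCx K).map g,
    (DCoh.LTensorCx K).map ε.inv ≫ b, isomorphic_distinguished _ hd _ ?_⟩
  refine Triangle.isoMk _ _ (Iso.refl _) (Iso.refl _) ((DCoh.LTensorCx K).mapIso ε.symm) ?_ ?_ ?_
  · exact (Category.comp_id _).trans (Category.id_comp _).symm
  · change (DCoh.LTensorCx K).map g ≫ (DCoh.LTensorCx K).map ε.inv = 𝟙 _ ≫ (DCoh.LTensorCx K).map (g ≫ ε.inv)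
    simp
  · change ((DCoh.LTensorCx K).map ε.inv ≫ b) ≫ (𝟙 _)⟦(1 : ℤ)⟧' = (DCoh.LTensorCx K).map ε.inv ≫ b
    simp

theorem ex_Rpush (f : X ⟶ Y) [DCoh.HasRpush f] : Ex (DCoh.Rpush f) := by
  intro A B g
  obtain ⟨Z, a, b, hT⟩ := Pretriangulated.distinguished_cocone_triangle g
  haveI := Groth.L17.PushQCoh.hasInjectiveResolutions X
  haveI := Groth.L29.DC.QRlim.enoughKInj X
  haveI := Groth.L17.PushQCoh.additive_push f
  let α := (DCoh.pushKh f).totalRightDerivedUnit DerivedCategory.Qh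
      (HomotopyCategory.quasiIso X.Modules (ComplexShape.up ℤ))
  obtain ⟨δ, hR⟩ := RDerTri.exists_triangle (F := Scheme.Modules.pushforward f) α _ hT
  exact ⟨Z, a, b, hT, _, δ, hR⟩

theorem ex_Lpull (f : X ⟶ Y) [DCoh.HasLpull f] : Ex (DCoh.Lpull f) := fun _ _ g =>
  Groth.L07.BvdB.KernelSystem.exists_cone (DerivedApi.acyclicKFlat_pullback f) g

/-- Derived pullback along the identity. -/
theorem nonempty_Lpull_id (i : X ⟶ X) (hi : i = 𝟙 X) [DCoh.HasLpull i] (E : DCoh.D X) :
    Nonempty ((DCoh.Lpull i).obj E ≅ E) := by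
  subst hi
  obtain ⟨P, q, hP, -, hq, -⟩ := KFlat.exists_resolution (DerivedCategory.Q.objPreimage E)
  haveI := (DerivedCategory.isIso_Q_map_iff_quasiIso _ q).2 hq
  let e : DCoh.toD X P ≅ E := asIso (DerivedCategory.Q.map q) ≪≫ DerivedCategory.Q.objObjPreimageIso E
  exact ⟨(DCoh.Lpull (𝟙 X)).mapIso e.symm ≪≫
    DerivedApi.objIso (DerivedApi.acyclicKFlat_pullback (𝟙 X)) P hP ≪≫
    DerivedCategory.Q.mapIso ((NatIso.mapHomologicalComplex (Scheme.Modules.pullbackId X) (ComplexShape.up ℤ)).app P ≪≫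
      (Functor.mapHomologicalComplexIdIso X.Modules (ComplexShape.up ℤ)).app P) ≪≫ e⟩

/-- Derived direct image along the identity. -/
theorem nonempty_Rpush_id (i : X ⟶ X) (hi : i = 𝟙 X) [DCoh.HasRpush i] (E : DCoh.D X) :
    Nonempty ((DCoh.Rpush i).obj E ≅ E) := by
  subst hi
  haveI := Groth.L29.DC.ClosedPC.additive (𝟙 X)
  haveI := Groth.L29.DC.ClosedPC.exactLeft (𝟙 X)
  haveI := Groth.L29.DC.ClosedPC.exactRight (𝟙 X)
  obtain ⟨a⟩ := Groth.L29.DC.ClosedProj.nonempty_Rpush (𝟙 X) (DerivedCategory.Q.objPreimage E)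
  exact ⟨(DCoh.Rpush (𝟙 X)).mapIso (DerivedCategory.Q.objObjPreimageIso E).symm ≪≫ a ≪≫
    DerivedCategory.Q.mapIso ((NatIso.mapHomologicalComplex (Scheme.Modules.pushforwardId (X := X)) (ComplexShape.up ℤ)).app _ ≪≫
      (Functor.mapHomologicalComplexIdIso X.Modules (ComplexShape.up ℤ)).app _) ≪≫
    DerivedCategory.Q.objObjPreimageIso E⟩

end Groth.L07.StrongGen
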