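import Groth.Agent.L07.StrongGen.Uniform
import Mathlib.CategoryTheory.Triangulated.HomologicalFunctor

/-! Uniform ranges of a homological functor on images of an envelope under a family of exact functors. -/

set_option autoImplicit false
set_option backward.defeqAttrib.useBackward true
set_option backward.isDefEq.respectTransparency false
set_option backward.isDefEq.respectTransparency.types false

universe w v u v' u' v'' u''

open CategoryTheory CategoryTheory.Limits CategoryTheory.Pretriangulated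
open scoped ZeroObject

namespace Groth.L07.StrongGen

variable {D : Type u'} [Category.{v'} D] [Preadditive D] [HasZeroObject D] [HasShift D ℤ]
  [∀ n : ℤ, (shiftFunctor D n).Additive] [Pretriangulated D] [IsTriangulated D]
  (P : ObjectProperty D) [P.IsTriangulated]
  {A : Type u''} [Category.{v''} A] [Abelian A] (H : P.FullSubcategory ⥤ A) [H.IsHomological]

/-- The value of the functor on the shifts vanishes outside `[-m, m]`. -/
def Bdd (m : ℕ) (W : D) : Prop :=
  ∃ hW : P W, ∀ i : ℤ, (i < -(m : ℤ) ∨ (m : ℤ) < i) → IsZero (H.obj ((⟨W, hW⟩ : P.FullSubcategory)⟦i⟧))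

variable {P H}

omit [H.IsHomological] in
theorem Bdd.mono {m m' : ℕ} {W : D} (hm : m ≤ m') (h : Bdd P H m W) : Bdd P H m' W := by
  obtain ⟨hW, h⟩ := h
  exact ⟨hW, fun i hi => h i (by omega)⟩

omit [H.IsHomological] in
theorem Bdd.of_iso [P.IsClosedUnderIsomorphisms] {m : ℕ} {W W' : D} (e : W ≅ W') (h : Bdd P H m W) :
    Bdd P H m W' := by
  obtain ⟨hW, h⟩ := h
  refine ⟨P.prop_of_iso e hW, fun i hi => (h i hi).of_iso (H.mapIso ((shiftFunctor _ i).mapIso ?_))⟩
  exact P.isoMk e.symm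

theorem Bdd.of_isZero [P.IsClosedUnderIsomorphisms] {W : D} (hW : IsZero W) : Bdd P H 0 W := by
  refine ⟨P.prop_of_iso ((isZero_zero D).iso hW) (ObjectProperty.prop_zero P), fun i _ => H.map_isZero
    ((shiftFunctor _ i).map_isZero ?_)⟩
  rw [IsZero.iff_id_eq_zero]
  ext
  exact hW.eq_of_src _ _

omit [H.IsHomological] in
theorem Bdd.retract [P.IsStableUnderRetracts] {m : ℕ} {W W' : D} (r : Retract W W') (h : Bdd P H m W')
    [H.PreservesZeroMorphisms] : Bdd P H m W := by
  obtain ⟨hW, h⟩ := h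
  refine ⟨P.prop_of_retract r hW, fun i hi => ?_⟩
  let r' : Retract (⟨W, P.prop_of_retract r hW⟩ : P.FullSubcategory) ⟨W', hW⟩ :=
    { i := ObjectProperty.homMk r.i, r := ObjectProperty.homMk r.r, retract := by ext; exact r.retract }
  have r'' := (r'.map (shiftFunctor _ i)).map H
  rw [IsZero.iff_id_eq_zero, ← r''.retract, (h i hi).eq_of_src r''.r 0, comp_zero]

omit [H.IsHomological] in
theorem Bdd.shift [P.IsClosedUnderIsomorphisms] {m : ℕ} {W : D} (n : ℤ) (h : Bdd P H m W) :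
    Bdd P H (m + n.natAbs) (W⟦n⟧) := by
  obtain ⟨hW, h⟩ := h
  let e : (⟨W⟦n⟧, P.le_shift n _ hW⟩ : P.FullSubcategory) ≅ (⟨W, hW⟩ : P.FullSubcategory)⟦n⟧ :=
    P.isoMk ((P.ι.commShiftIso n).app (⟨W, hW⟩ : P.FullSubcategory)).symm
  exact ⟨P.le_shift n _ hW, fun i hi => (h (n + i) (by omega)).of_iso (H.mapIso
    ((shiftFunctor _ i).mapIso e ≪≫ ((shiftFunctorAdd' P.FullSubcategory n i (n + i) rfl).app _).symm))⟩

theorem Bdd.ext [P.IsClosedUnderIsomorphisms] {a b : ℕ} {T : Triangle D} (hT : T ∈ distTriang D)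
    (h₁ : Bdd P H a T.obj₁) (h₃ : Bdd P H b T.obj₃) : Bdd P H (max a b) T.obj₂ := by
  obtain ⟨p₁, h₁⟩ := h₁
  obtain ⟨p₃, h₃⟩ := h₃
  have p₂ : P T.obj₂ := P.ext_of_isTriangulatedClosed₂ T hT p₁ p₃
  let T' : Triangle P.FullSubcategory := Triangle.mk
    (ObjectProperty.homMk T.mor₁ : (⟨T.obj₁, p₁⟩ : P.FullSubcategory) ⟶ ⟨T.obj₂, p₂⟩)
    (ObjectProperty.homMk T.mor₂ : (⟨T.obj₂, p₂⟩ : P.FullSubcategory) ⟶ ⟨T.obj₃, p₃⟩)
    (P.fullyFaithfulι.preimage (T.mor₃ ≫ (P.ι.commShiftIso (1 : ℤ)).inv.app ⟨T.obj₁, p₁⟩))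
  have hT' : T' ∈ distTriang P.FullSubcategory := by
    change P.ι.mapTriangle.obj T' ∈ distTriang D
    refine isomorphic_distinguished _ hT _ (Triangle.isoMk _ _ (Iso.refl _) (Iso.refl _) (Iso.refl _) ?_ ?_ ?_)
    · simp [T']
    · simp [T']
    · simp [T']
  refine ⟨p₂, fun i hi => ?_⟩
  have hex := H.map_distinguished_exact _ (Triangle.shift_distinguished _ hT' i)
  exact hex.isZero_X₂ ((h₁ i (by omega)).eq_of_src _ _) ((h₃ i (by omega)).eq_of_tgt _ _)

variable (P H)
variable {C : Type u} [Category.{v} C] [Preadditive C] [HasZeroObject C] [HasShift C ℤ]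
  [∀ n : ℤ, (shiftFunctor C n).Additive] [Pretriangulated C] [IsTriangulated C]

/-- The objects whose images all have one range. -/
def URange {ι : Type w} (F : ι → C ⥤ D) : ObjectProperty C := fun M => ∃ m, ∀ j, Bdd P H m ((F j).obj M)

theorem urange_of_triangEnvelope [P.IsClosedUnderIsomorphisms] [P.IsStableUnderRetracts]
    [H.PreservesZeroMorphisms] {ι : Type w} (F : ι → C ⥤ D) (hF : ∀ j, Ex (F j))
    (Q : ObjectProperty C) (hQ : Q ≤ URange P H F) : Q.triangEnvelope ≤ URange P H F := by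
  have hiso : (URange P H F).IsClosedUnderIsomorphisms :=
    ⟨fun e ⟨N, h⟩ => ⟨N, fun j => (h j).of_iso ((F j).mapIso e)⟩⟩
  have : (URange P H F).IsStableUnderRetracts :=
    ⟨fun r ⟨N, h⟩ => ⟨N, fun j => (h j).retract (r.map (F j))⟩⟩
  have : (URange P H F).ContainsZero :=
    ⟨⟨0, isZero_zero C, 0, fun j => Bdd.of_isZero ((hF j).map_isZero (isZero_zero C))⟩⟩
  have : (URange P H F).IsStableUnderShift ℤ :=
    ⟨fun n => ⟨fun M ⟨N, h⟩ => ⟨N + n.natAbs, fun j =>
      ((h j).shift n).of_iso ((hF j).nonempty_shift M n).some.symm⟩⟩⟩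
  have : (URange P H F).IsTriangulatedClosed₂ := ⟨fun T hT ⟨a, ha⟩ ⟨b, hb⟩ => by
    refine ObjectProperty.le_isoClosure _ _ ⟨max a b, fun j => ?_⟩
    obtain ⟨x, y, hd⟩ := (hF j).triangle T hT
    exact Bdd.ext hd (ha j) (hb j)⟩
  have : (URange P H F).IsTriangulated := { }
  exact Q.triangEnvelope_le_iff.2 hQ

/-- Ranges are closed under finite biproducts. -/
theorem bdd_biproduct [P.IsClosedUnderIsomorphisms] (F : C ⥤ D) (hF : Ex F) (m : ℕ) :
    ∀ (n : ℕ) (f : Fin n → C), (∀ k, Bdd P H m (F.obj (f k))) → Bdd P H m (F.obj (⨁ f)) := by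
  intro n
  induction n with
  | zero =>
    intro f _
    refine (Bdd.of_isZero (hF.map_isZero ?_)).mono (Nat.zero_le m)
    rw [IsZero.iff_id_eq_zero]
    exact biproduct.hom_ext _ _ fun j => j.elim0
  | succ n ih =>
    intro f h
    let e : ⨁ f ≅ f 0 ⊞ ⨁ (fun k : Fin n => f k.succ) :=
      { hom := biprod.lift (biproduct.π f 0) (biproduct.lift fun k => biproduct.π f k.succ)
        inv := biprod.desc (biproduct.ι f 0) (biproduct.desc fun k => biproduct.ι f k.succ)
        hom_inv_id := by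
          rw [biprod.lift_desc, biproduct.lift_desc, ← biproduct.total, Fin.sum_univ_succ]
        inv_hom_id := by
          ext <;> simp [biproduct.ι_π, Fin.succ_inj, (Fin.succ_ne_zero _).symm, Fin.succ_ne_zero] <;>
            split_ifs <;> simp_all }
    have h2 := Bdd.ext (binaryBiproductTriangle_distinguished (F.obj (f 0)) (F.obj (⨁ fun k : Fin n => f k.succ)))
      (h 0) (ih _ fun k => h k.succ)
    rw [max_self] at h2
    exact h2.of_iso (F.mapIso e ≪≫ (hF.nonempty_biprod _ _).some).symm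

end Groth.L07.StrongGen
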