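import Groth.Agent.L07.StrongGen.Ex

/-! A family of exact functors sending a generator into a fixed level sends its envelope into a fixed level. -/

set_option autoImplicit false
set_option backward.defeqAttrib.useBackward true
set_option backward.isDefEq.respectTransparency false
set_option backward.isDefEq.respectTransparency.types false

universe w v u v' u'

open CategoryTheory CategoryTheory.Limits CategoryTheory.Pretriangulated
open scoped ZeroObject

namespace Groth.L07.StrongGen

variable {C : Type u} [Category.{v} C] [Preadditive C] [HasZeroObject C] [HasShift C ℤ]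
  [∀ n : ℤ, (shiftFunctor C n).Additive] [Pretriangulated C] [IsTriangulated C]
  {D : Type u'} [Category.{v'} D] [Preadditive D] [HasZeroObject D] [HasShift D ℤ]
  [∀ n : ℤ, (shiftFunctor D n).Additive] [Pretriangulated D] [IsTriangulated D]

/-- Level zero contains zero objects. -/
theorem iter_isZero (Q : ObjectProperty D) (G : D) (hG : Q G) {Z : D} (hZ : IsZero Z) :
    Q.triangEnvelopeIter 0 Z :=
  (Q.triangEnvelopeIter 0).prop_of_retract (Y := G) ⟨0, 0, hZ.eq_of_src _ _⟩ (Q.le_triangEnvelopeIter 0 _ hG)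

theorem iter_ext (Q : ObjectProperty D) (G : D) (hG : Q G) (a b : ℕ) {T : Triangle D} (hT : T ∈ distTriang D)
    (h₁ : Q.triangEnvelopeIter a T.obj₁) (h₃ : Q.triangEnvelopeIter b T.obj₃) :
    Q.triangEnvelopeIter (a + (b + 1)) T.obj₂ := by
  have : Q.Nonempty := ObjectProperty.nonempty_of_prop hG
  rw [Q.triangEnvelopeIter_add' rfl]
  exact ObjectProperty.le_retractClosure _ _ ⟨_, _, _, _, _, hT, h₁, h₃⟩

/-- The objects sent by all the functors into one level. -/
def Unif {ι : Type w} (F : ι → C ⥤ D) (Q : ObjectProperty D) : ObjectProperty C :=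
  fun M => ∃ N, ∀ i, Q.triangEnvelopeIter N ((F i).obj M)

theorem unif_of_triangEnvelope {ι : Type w} (F : ι → C ⥤ D) (hF : ∀ i, Ex (F i)) (Q : ObjectProperty D) (G : D)
    (hG : Q G) (P : ObjectProperty C) (hP : P ≤ Unif F Q) : P.triangEnvelope ≤ Unif F Q := by
  have hiso : (Unif F Q).IsClosedUnderIsomorphisms :=
    ⟨fun e ⟨N, h⟩ => ⟨N, fun i => (Q.triangEnvelopeIter N).prop_of_iso ((F i).mapIso e) (h i)⟩⟩
  have : (Unif F Q).IsStableUnderRetracts :=
    ⟨fun r ⟨N, h⟩ => ⟨N, fun i => (Q.triangEnvelopeIter N).prop_of_retract (r.map (F i)) (h i)⟩⟩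
  have : (Unif F Q).ContainsZero :=
    ⟨⟨0, isZero_zero C, 0, fun i => iter_isZero Q G hG ((hF i).map_isZero (isZero_zero C))⟩⟩
  have : (Unif F Q).IsStableUnderShift ℤ :=
    ⟨fun n => ⟨fun M ⟨N, h⟩ => ⟨N, fun i =>
      (Q.triangEnvelopeIter N).prop_of_iso ((hF i).nonempty_shift M n).some.symm
        ((Q.triangEnvelopeIter N).le_shift n _ (h i))⟩⟩⟩
  have : (Unif F Q).IsTriangulatedClosed₂ := ⟨fun T hT ⟨a, ha⟩ ⟨b, hb⟩ => by
    refine ObjectProperty.le_isoClosure _ _ ⟨a + (b + 1), fun i => ?_⟩
    obtain ⟨x, y, hd⟩ := (hF i).triangle T hT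
    exact iter_ext Q G hG a b hd (ha i) (hb i)⟩
  have : (Unif F Q).IsTriangulated := { }
  exact P.triangEnvelope_le_iff.2 hP

/-- A class of objects sent into one level is closed under finite biproducts. -/
theorem iter_biproduct {F : C ⥤ D} (hF : Ex F) (Q : ObjectProperty D) (G : D) (hG : Q G) (N : ℕ) :
    ∀ (n : ℕ) (f : Fin n → C), (∀ k, Q.triangEnvelopeIter N (F.obj (f k))) →
      Q.triangEnvelopeIter N (F.obj (⨁ f)) := by
  intro n
  induction n with
  | zero =>
    intro f _
    refine Q.monotone'_triangEnvelopeIter (Nat.zero_le N) _ (iter_isZero Q G hG (hF.map_isZero ?_))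
    rw [IsZero.iff_id_eq_zero]
    exact biproduct.hom_ext _ _ fun j => j.elim0
  | succ n ih =>
    intro f h
    let e : ⨁ f ≅ f 0 ⊞ ⨁ (fun k : Fin n => f k.succ) :=
      { hom := biprod.lift (biproduct.π f 0) (biproduct.lift fun k => biproduct.π f k.succ)
        inv := biprod.desc (biproduct.ι f 0) (biproduct.desc fun k => biproduct.ι f k.succ)
        hom_inv_id := by
          rw [biprod.lift_desc, biproduct.lift_desc, ← biproduct.total, Fin.sum_univ_succ]
        inv_hom_id := by
          ext <;> simp [biproduct.ι_π, Fin.succ_inj, (Fin.succ_ne_zero _).symm, Fin.succ_ne_zero] <;>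
            split_ifs <;> simp_all }
    exact (Q.triangEnvelopeIter N).prop_of_iso (F.mapIso e ≪≫ (hF.nonempty_biprod _ _).some).symm
      (Groth.L10.biprodClosed_triangEnvelopeIter Q N _ _ (h 0) (ih _ fun k => h k.succ))

end Groth.L07.StrongGen
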